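import Groth.Prelude.Def_Twist2
import Groth.Agent.RelTildeEx.TN
import Mathlib.RingTheory.IntegralClosure.IntegrallyClosed
import Mathlib.RingTheory.IntegralClosure.Algebra.Basic
import Mathlib.RingTheory.Noetherian.Nilpotent

/-! Global sections of the twists on a projectively normal `Proj`. -/

set_option autoImplicit false
set_option backward.isDefEq.respectTransparency false
set_option backward.isDefEq.respectTransparency.types false

noncomputable section

universe u

open TopologicalSpace Opposite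

namespace Groth.Agent.NormalSections

variable {R A : Type u} [CommRing R] [CommRing A] [IsDomain A]
    [IsNoetherianRing A] [Algebra R A] (𝒜 : ℕ → Submodule R A) [GradedAlgebra 𝒜]
    (hgen : ∀ i : ℕ, 𝒜 1 * 𝒜 i = 𝒜 (i + 1)) (h1 : 𝒜 1 ≠ ⊥)

include hgen in
theorem le_irrelevant_pow (i : ℕ) :
    (𝒜 i : Set A) ⊆ ((HomogeneousIdeal.irrelevant 𝒜).toIdeal ^ i : Ideal A) := by
  induction i with
  | zero => intro a _; simp
  | succ i ih =>
    intro a ha
    rw [SetLike.mem_coe, ← hgen i] at ha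
    induction ha using Submodule.mul_induction_on' with
    | mem_mul_mem b hb c hc =>
      rw [SetLike.mem_coe, pow_succ']
      exact Ideal.mul_mem_mul (HomogeneousIdeal.mem_irrelevant_of_mem _ one_pos hb) (ih hc)
    | add b _ c _ hb hc => exact add_mem hb hc

include hgen in
theorem mem_span_of_le {M j : ℕ} (h : M ≤ j) {a : A} (ha : a ∈ 𝒜 j) : a ∈ Ideal.span (𝒜 M : Set A) := by
  induction j, h using Nat.le_induction generalizing a with
  | base => exact Ideal.subset_span ha
  | succ j _ ih =>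
    rw [← hgen j] at ha
    induction ha using Submodule.mul_induction_on' with
    | mem_mul_mem b _ c hc => exact Ideal.mul_mem_left _ _ (ih hc)
    | add b _ c _ hb hc => exact add_mem hb hc

include h1 in
theorem not_irrelevant_le_bot : ¬ HomogeneousIdeal.irrelevant 𝒜 ≤ (⊥ : HomogeneousIdeal 𝒜) := by
  intro h
  obtain ⟨x, hx, hx0⟩ := Submodule.exists_mem_ne_zero_of_ne_bot h1
  have h2 : x ∈ (⊥ : HomogeneousIdeal 𝒜).toIdeal := h (HomogeneousIdeal.mem_irrelevant_of_mem _ one_pos hx)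
  rw [HomogeneousIdeal.toIdeal_bot, Ideal.mem_bot] at h2
  exact hx0 h2

/-- the generic point of `Proj` -/
def genPt : ProjectiveSpectrum 𝒜 :=
  ⟨⊥, by rw [HomogeneousIdeal.toIdeal_bot]; exact Ideal.isPrime_bot, not_irrelevant_le_bot 𝒜 h1⟩

theorem not_mem_genPt {t : A} (ht : t ≠ 0) : t ∉ (genPt 𝒜 h1).asHomogeneousIdeal := by
  intro h
  have h2 : t ∈ (⊥ : HomogeneousIdeal 𝒜).toIdeal := h
  rw [HomogeneousIdeal.toIdeal_bot, Ideal.mem_bot] at h2
  exact ht h2

theorem genPt_mem {U : Opens (ProjectiveSpectrum.top 𝒜)} {x : ProjectiveSpectrum 𝒜} (hx : x ∈ U) :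
    genPt 𝒜 h1 ∈ U := by
  have hsp : genPt 𝒜 h1 ⤳ x := (ProjectiveSpectrum.le_iff_mem_closure _ (genPt 𝒜 h1) x).1
    (show (⊥ : HomogeneousIdeal 𝒜) ≤ x.asHomogeneousIdeal from bot_le) |> specializes_iff_mem_closure.2
  exact hsp.mem_open U.2 hx

include hgen h1 in
theorem bijective_globalOf (hint : IsIntegrallyClosed A) (d : ℕ) :
    Function.Bijective (fun a : ↥(𝒜 d) => Twist.globalOf 𝒜 a) := by
  classical
  let η := genPt 𝒜 h1
  haveI : η.asHomogeneousIdeal.toIdeal.IsPrime := η.isPrime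
  let L := Twist.Loc 𝒜 η
  haveI : IsFractionRing A L := by
    show IsLocalization (nonZeroDivisors A) L
    convert (Localization.isLocalization : IsLocalization η.asHomogeneousIdeal.toIdeal.primeCompl L) using 1
    ext y
    show y ∈ nonZeroDivisors A ↔ y ∉ η.asHomogeneousIdeal.toIdeal
    rw [mem_nonZeroDivisors_iff_ne_zero, show η.asHomogeneousIdeal.toIdeal = ⊥ from HomogeneousIdeal.toIdeal_bot,
      Ideal.mem_bot]
  constructor
  · intro a b hab
    have h := congrArg Subtype.val (congrFun (congrArg Subtype.val hab) (⟨η, trivial⟩ : (⊤ : Opens (ProjectiveSpectrum.top 𝒜))))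
    change Localization.mk a.1 _ = Localization.mk b.1 _ at h
    rw [Localization.mk_eq_mk_iff, Localization.r_iff_exists] at h
    obtain ⟨c, hc⟩ := h
    refine Subtype.ext ?_
    have hc' : (c : A) * a.1 = (c : A) * b.1 := by simpa using hc
    exact mul_left_cancel₀ (fun h0 : (c : A) = 0 => c.2 (h0 ▸ Ideal.zero_mem _)) hc'
  intro s
  let q : L := (s.1 (⟨η, trivial⟩ : (⊤ : Opens (ProjectiveSpectrum.top 𝒜)))).1
  let E : Set A := {t | ∃ j, t ∈ 𝒜 j ∧ ∃ a ∈ 𝒜 (j + d), algebraMap A L t * q = algebraMap A L a}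
  -- local shape
  have hloc : ∀ x : (⊤ : Opens (ProjectiveSpectrum.top 𝒜)), ∃ (t : A) (a : A) (ht : t ∉ x.1.asHomogeneousIdeal),
      (∃ j, t ∈ 𝒜 j ∧ a ∈ 𝒜 (j + d)) ∧ (s.1 x).1 = Localization.mk a ⟨t, ht⟩ ∧
        algebraMap A L t * q = algebraMap A L a := by
    intro x
    obtain ⟨V, hxV, iV, i, j, a, t, nin, hdeg, hw⟩ := s.2 x
    refine ⟨t.1, a.1, nin ⟨x.1, hxV⟩, ⟨j, t.2, ?_⟩, hw ⟨x.1, hxV⟩, ?_⟩
    · rcases hdeg with h | h
      · have : i = j + d := by omega
        exact this ▸ a.2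
      · rw [h]; exact zero_mem _
    · have hη : η ∈ V := genPt_mem 𝒜 h1 hxV
      have h3 : q = Localization.mk a.1 ⟨t.1, nin ⟨η, hη⟩⟩ := hw ⟨η, hη⟩
      rw [h3, Localization.mk_eq_mk', mul_comm, IsLocalization.mk'_spec_mk]
  -- a power of the irrelevant ideal lies in the denominators
  have hrad : (HomogeneousIdeal.irrelevant 𝒜).toIdeal ≤ (Ideal.span E).radical := by
    intro f hf
    rw [← DirectSum.sum_support_decompose 𝒜 f]
    refine sum_mem fun i _ => ?_
    rcases Nat.eq_zero_or_pos i with rfl | hi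
    · rw [show (DirectSum.decompose 𝒜 f 0 : A) = 0 from hf]
      exact zero_mem _
    · refine Groth.Agent.RelTildeEx.mem_radical_of_forall (𝒜 := 𝒜) hi (SetLike.coe_mem _)
        (fun e he => ⟨he.choose, he.choose_spec.1⟩) fun x _ => ?_
      obtain ⟨t, a, ht, ⟨j, htj, haj⟩, -, heq⟩ := hloc ⟨x, trivial⟩
      exact ⟨t, ⟨j, htj, a, haj, heq⟩, ht⟩
  obtain ⟨M, hM⟩ := Ideal.exists_pow_le_of_le_radical_of_fg hrad (IsNoetherian.noetherian _)
  obtain ⟨t₀, a₀, ht₀, ⟨j₀, htj₀, haj₀⟩, -, heq₀⟩ := hloc ⟨η, trivial⟩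
  have ht₀0 : t₀ ≠ 0 := fun h0 => ht₀ (h0 ▸ Submodule.zero_mem _)
  have hinj := IsFractionRing.injective A L
  -- a denominator sends a degree to the degree shifted by `d`
  have hdeg : ∀ (j : ℕ) (b c : A), b ∈ 𝒜 j → algebraMap A L b * q = algebraMap A L c → c ∈ 𝒜 (j + d) := by
    intro j b c hb hc
    have h2 : t₀ * c = b * a₀ := hinj (by rw [map_mul, map_mul, ← hc, ← heq₀]; ring)
    have h3 : t₀ * c ∈ 𝒜 (j₀ + (j + d)) := by
      rw [h2, show j₀ + (j + d) = j + (j₀ + d) by ring]; exact SetLike.mul_mem_graded hb haj₀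
    have h4 := DirectSum.decompose_of_mem_same 𝒜 h3
    rw [DirectSum.coe_decompose_mul_of_left_mem 𝒜 _ htj₀, if_pos (Nat.le_add_right _ _), Nat.add_sub_cancel_left] at h4
    rw [← mul_left_cancel₀ ht₀0 h4]
    exact SetLike.coe_mem _
  have hstable : ∀ b ∈ 𝒜 M, ∃ c ∈ 𝒜 (M + d), algebraMap A L b * q = algebraMap A L c := by
    intro b hb
    have hbE : b ∈ Ideal.span E := hM (le_irrelevant_pow 𝒜 hgen M hb)
    obtain ⟨c, hc⟩ : ∃ c, algebraMap A L b * q = algebraMap A L c := by
      clear hb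
      induction hbE using Submodule.span_induction with
      | mem t ht => obtain ⟨-, -, a, -, h⟩ := ht; exact ⟨a, h⟩
      | zero => exact ⟨0, by simp⟩
      | add x y _ _ hx hy =>
        obtain ⟨c, hc⟩ := hx
        obtain ⟨c', hc'⟩ := hy
        exact ⟨c + c', by rw [map_add, map_add, add_mul, hc, hc']⟩
      | smul r x _ hx =>
        obtain ⟨c, hc⟩ := hx
        exact ⟨r * c, by rw [smul_eq_mul, map_mul, map_mul, mul_assoc, hc]⟩
    exact ⟨c, hdeg M b c hb hc, hc⟩
  -- integrality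
  let J : Ideal A := Ideal.span (𝒜 M : Set A)
  let N : Submodule A L := Submodule.map (Algebra.linearMap A L) J
  have hqN : ∀ n ∈ N, q • n ∈ N := by
    rintro _ ⟨b, hb, rfl⟩
    induction hb using Submodule.span_induction with
    | mem b hb =>
      obtain ⟨c, hc, hcq⟩ := hstable b hb
      refine ⟨c, mem_span_of_le 𝒜 hgen (Nat.le_add_right M d) hc, ?_⟩
      rw [smul_eq_mul, mul_comm]
      exact hcq.symm
    | zero => simp
    | add x y _ _ hx hy => rw [map_add, smul_add]; exact add_mem hx hy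
    | smul r x _ hx => rw [map_smul, smul_comm]; exact N.smul_mem r hx
  have hN0 : N ≠ ⊥ := by
    obtain ⟨x, hx, hx0⟩ := Submodule.exists_mem_ne_zero_of_ne_bot h1
    intro h0
    have hxM : x ^ M ∈ 𝒜 M := by simpa using SetLike.pow_mem_graded M hx
    have : algebraMap A L (x ^ M) ∈ N := ⟨x ^ M, Ideal.subset_span hxM, rfl⟩
    rw [h0, Submodule.mem_bot] at this
    exact pow_ne_zero M hx0 (hinj (this.trans (map_zero _).symm))
  letI : Field L := IsFractionRing.toField A
  have hqint : IsIntegral A q :=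
    isIntegral_of_smul_mem_submodule N hN0 ((IsNoetherian.noetherian J).map _) q hqN
  obtain ⟨c, hc⟩ := (IsIntegrallyClosed.isIntegral_iff (R := A) (K := L)).1 hqint
  have hcd : c ∈ 𝒜 d := by
    have := hdeg 0 1 c (SetLike.one_mem_graded 𝒜) (by rw [map_one, one_mul, hc])
    rwa [zero_add] at this
  refine ⟨⟨c, hcd⟩, Subtype.ext (funext fun x => Subtype.ext ?_)⟩
  obtain ⟨t, a, ht, -, hval, heq⟩ := hloc x
  rw [hval]
  show Localization.mk c _ = _
  rw [Localization.mk_eq_mk_iff, Localization.r_iff_exists]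
  refine ⟨1, ?_⟩
  have : t * c = a := hinj (by rw [map_mul, hc, heq])
  simp [this]

end Groth.Agent.NormalSections
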